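import Cfsg.Agent.Helper28.Fi22P1.All
import Cfsg.Agent.Helper28.Fi22Sub
set_option autoImplicit false
set_option maxRecDepth 1000000
namespace Cfsg.Agent.Helper28.Fi22P1
open Cfsg.Agent.Helper28 Cfsg.Spor

/-- generator with a given index -/
def gen : Nat → Fi22P1D.Gen
  | 0 => .b | 1 => .c | 2 => .d | 3 => .e | 4 => .f | 5 => .g | 6 => .h | _ => .i

/-- index of a generator -/
def idx : Fi22P1D.Gen → Nat
  | .b => 0 | .c => 1 | .d => 2 | .e => 3 | .f => 4 | .g => 5 | .h => 6 | .i => 7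

/-- the subgroup generators -/
def Ylist : List (FreeGroup Fi22P1D.Gen) := [Fi22P1D.b, Fi22P1D.c, Fi22P1D.d, Fi22P1D.e, Fi22P1D.f, Fi22P1D.h, Fi22P1D.i]

theorem hY_ok : ∀ s, s < tabs.nsub → ev gen 8 (tabs.word s) = Ylist.getD s 1 := by
  decide +kernel

theorem hcoxw_ok : ∀ ix, ix < 8 → ∀ iy, iy < 8 →
    tabs.word (tabs.nsub + ix * 8 + iy) = coxW ix iy (lab Fi22P1D.edges gen ix iy) := by
  decide +kernel

theorem hextra_ok : ∀ j, j < Fi22P1D.extra.length →
    ev gen 8 (tabs.word (tabs.nsub + 8 * 8 + j)) = Fi22P1D.extra.getD j 1 := by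
  decide +kernel

theorem htriv_ok : ∀ l, l < 2 * 8 →
    tabs.word (tabs.nsub + 8 * 8 + Fi22P1D.extra.length + l) = [l, flipL l] := by
  decide +kernel

theorem hletters_ok : ∀ r, r < tabs.nwords → ∀ l ∈ tabs.word r, l < ptabs.L := by
  decide +kernel

theorem layout : Layout Fi22P1D.edges Fi22P1D.extra Ylist gen idx 8 tabs ptabs where
  hngen := by decide
  hgi := by intro a; cases a <;> exact ⟨by decide, rfl⟩
  hig := by decide
  hnsub := by decide +kernel
  hY := hY_ok
  hcoxw := hcoxw_ok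
  hextra := hextra_ok
  htriv := htriv_ok
  hempty := by decide +kernel
  hnwords := by decide +kernel
  hL := by decide +kernel
  hletters := hletters_ok

/-- the relators -/
abbrev R : Set (FreeGroup Fi22P1D.Gen) := coxRels Fi22P1D.edges Fi22P1D.extra
/-- the subgroup generators as a set -/
abbrev Y : Set (FreeGroup Fi22P1D.Gen) := {y | y ∈ Ylist}

theorem facts_to (k kend : Nat) (vs : List Nat) (hc : checkChunks tabs vs k kend = true)
    (hk : ∀ f, f < k → VF (HH R Y) (gG R gen 8) tabs f) :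
    ∀ f, f < kend → VF (HH R Y) (gG R gen 8) tabs f :=
  facts_part R Y gen 8 tabs layout.hngen defs_ok layout.hYw layout.hrelw vs k kend hc hk

theorem facts_0 : ∀ f, f < 0 → VF (HH R Y) (gG R gen 8) tabs f :=
  fun f hf => absurd hf (Nat.not_lt_zero f)
theorem facts_upto0 : ∀ f, f < 3717 → VF (HH R Y) (gG R gen 8) tabs f :=
  facts_to _ _ _ facts_ok0 facts_0

theorem hperm_all : ∀ r, tabs.nsub ≤ r → r < tabs.nsub + 8 * 8 + Fi22P1D.extra.length →
    relOk ptabs (tabs.word r) 0 ptabs.n = true := by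
  intro r h1 h2
  exact perm_all r h1 h2

theorem hn : 0 < ptabs.n := by decide +kernel

theorem main_index : (HH R Y).index = 364 :=
  (cox_cert inv_ok layout hn defs_ok 3717 facts_upto0 fin_ok par_ok hperm_all subfix_all).1

end Cfsg.Agent.Helper28.Fi22P1
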